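/-
Abstract split endgame from purity.
-/
import Cfsg.Agent.Se.D
set_option autoImplicit false
set_option linter.unusedSectionVars false

namespace CF.Se
open Subgroup Cfsg CF.BG CF.Sig CF.Ab2
open scoped commutatorElement

variable {G : Type*} [Group G] [Finite G]

/-- `t` interchanges the commuting subgroups `A`, `A ^ t`, fixes a unique point, and the class of `z` is pure -/
structure Sq (t : G) (A S : Subgroup G) (z : G) : Prop where
  tt : t * t = 1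
  cm : A ≤ 𝐂 (cj t A)
  oz : Od (𝐙 A)
  uq : ∀ g, InM t A (g * t * g⁻¹) → InM t A g
  pS : P2 S
  tS : t ∈ S
  lS : ∀ s ∈ S, InM t A s
  syl : Syl 2 S ⊤
  zA : z ∈ A
  zS : z ∈ S
  zz : z * z = 1
  z1 : z ≠ 1
  zc : ∀ s ∈ S, s ∈ M0 t A → s * z = z * s
  ab : ⁅S ⊓ M0 t A, S ⊓ M0 t A⁆ ≤ A ⊔ cj t A
  ip : ∀ a ∈ A, ∀ b ∈ A, ∀ c ∈ cj t A, a * a = 1 → b * b = 1 → c * c = 1 → b ≠ 1 → c ≠ 1 → ¬ IsConj a (b * c)
  four : ∃ a ∈ ⁅S ⊓ A, S ⊓ A⁆, ∃ b ∈ ⁅S ⊓ A, S ⊓ A⁆, a * a = 1 ∧ b * b = 1 ∧ a * b = b * a ∧ a ≠ 1 ∧ b ≠ 1 ∧ a ≠ b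
  nd : ∀ {x}, IsConj z x → t * x = x * t → False
  pur : ∀ y ∈ M0 t A, IsConj z y → y ∈ A ∨ y ∈ cj t A
  rt : ∀ a ∈ A, IsConj z a → ∃ g ∈ A, g * z * g⁻¹ = a
  zd : z ∈ ⁅S ⊓ A, S ⊓ A⁆
  sig : ∀ {K : Subgroup G}, Od K → S ≤ 𝐍 K → z ∈ 𝐂 K

variable {t z f g k m a b c s u x y : G} {A E H K P R S U X : Subgroup G}

namespace Sq
variable (h : Sq t A S z)
include h

theorem le2 (p : P2 R) (m : t ∈ R) : R ≤ MM t A := fun r hr => (mem_MM h.tt).2 (sub2 h.tt h.uq p m r hr)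

theorem SM : S ≤ MM t A := h.le2 h.pS h.tS
theorem cm' : cj t A ≤ 𝐂 A := cent_symm h.cm
theorem comm (ha : a ∈ A) (hb : b ∈ cj t A) : a * b = b * a := h.cm' hb a ha
theorem AM : A ≤ M0 t A := le_inf (le_norm_self A) (norm_of_cent h.cm)
theorem BM : cj t A ≤ M0 t A := le_inf (norm_of_cent h.cm') (le_norm_self _)
theorem GM : A ⊔ cj t A ≤ M0 t A := sup_le h.AM h.BM
theorem conjS (hs : s ∈ S) : t * s * t ∈ S := mul_mem (mul_mem h.tS hs) h.tS
theorem conj0 (hs : s ∈ S ⊓ M0 t A) : t * s * t ∈ S ⊓ M0 t A := ⟨h.conjS hs.1, conjM h.tt hs.2⟩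
theorem wB : t * z * t ∈ cj t A := (memB' h.tt).2 h.zA
theorem wS : t * z * t ∈ S := h.conjS h.zS
theorem ww : t * z * t * (t * z * t) = 1 := by simpa only [ti h.tt] using conj_sq h.zz t
theorem w1 : t * z * t ≠ 1 := by simpa only [ti h.tt] using conj_ne h.z1 t
theorem zw : z * (t * z * t) = t * z * t * z := h.comm h.zA h.wB
theorem sq (c : IsConj z y) : y * y = 1 := let ⟨g, e⟩ := isConj_iff.1 c; e ▸ conj_sq h.zz g
theorem ne (c : IsConj z y) : y ≠ 1 := let ⟨g, e⟩ := isConj_iff.1 c; e ▸ conj_ne h.z1 g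
theorem cz0 : S ⊓ M0 t A ≤ 𝐂₁ z := fun s hs => mem_cent1.2 (h.zc s hs.1 hs.2)

theorem zc' (hs : s ∈ S ⊓ M0 t A) : s * (t * z * t) = t * z * t * s := by
  have := h.zc _ (h.conj0 hs).1 (h.conj0 hs).2
  rw [← t3 h.tt s]
  calc _ = t * (t * s * t * (t * t) * z) * t := by group
    _ = t * (z * (t * t) * (t * s * t)) * t := by rw [h.tt, mul_one, mul_one, this]
    _ = _ := by group

theorem one (ha : a ∈ A) (hb : a ∈ cj t A) (e : a * a = 1) : a = 1 := (e2 e).eq_one (h.oz.elt ⟨ha, h.cm' hb⟩)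

theorem tri (hy : y ∈ A ⊔ cj t A) (e : y * y = 1) : y ∈ A ∨ y ∈ cj t A ∨ Mx t A y := by
  obtain ⟨a, ha, b, hb, rfl⟩ := (mem_sup_norm (norm_of_cent h.cm)).1 hy
  have c : Commute a b := h.comm ha hb
  have e1 : a * a * (b * b) = 1 := by rw [← e, c.mul_mul_mul_comm]
  have o : Odd (orderOf (a * a)) := eo_iff.2 (h.oz.elt ⟨mul_mem ha ha, h.cm' (eq_inv_of_mul_eq_one_left e1 ▸ inv_mem (mul_mem hb hb))⟩)
  generalize hk : orderOf (a * a) = k at o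
  have a2 : a ^ k * a ^ k = 1 := by rw [← (Commute.refl a).mul_pow, ← hk, pow_orderOf_eq_one]
  have b2 : b ^ k * b ^ k = 1 := by
    rw [← (Commute.refl b).mul_pow, eq_inv_of_mul_eq_one_right e1, inv_pow, ← hk, pow_orderOf_eq_one, inv_one]
  have e' : a * b = a ^ k * b ^ k := by
    obtain ⟨j, rfl⟩ := o
    rw [← c.mul_pow, pow_succ, pow_mul, _root_.sq, e, one_pow, one_mul]
  rw [e']
  by_cases k1 : b ^ k = 1
  · exact .inl (by rw [k1, mul_one]; exact pow_mem ha k)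
  by_cases k2 : a ^ k = 1
  · exact .inr (.inl (by rw [k2, one_mul]; exact pow_mem hb k))
  exact .inr (.inr ⟨_, pow_mem ha k, _, pow_mem hb k, a2, b2, k2, k1, rfl⟩)

theorem mx_sq (m : Mx t A y) : y * y = 1 := by
  obtain ⟨b, hb, c, hc, b2, c2, -, -, rfl⟩ := m
  rw [mul_assoc, ← mul_assoc c, ← h.comm hb hc, mul_assoc, c2, mul_one, b2]

theorem ipA (ha : a ∈ A) (m : Mx t A y) (c : IsConj a y) : False := by
  have a2 : a * a = 1 := by
    obtain ⟨g, rfl⟩ := isConj_iff.1 c.symm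
    exact conj_sq (h.mx_sq m) g
  obtain ⟨b, hb, d, hd, b2, d2, b1, d1, rfl⟩ := m
  exact h.ip a ha b hb d hd a2 b2 d2 b1 d1 c

theorem ipB (ha : a ∈ cj t A) (m : Mx t A y) (c : IsConj a y) : False :=
  h.ipA ((memB h.tt).1 ha) m ((isct h.tt a).symm.trans c)

theorem mxu : Mx t A (z * (t * z * t)) := ⟨z, h.zA, _, h.wB, h.zz, h.ww, h.z1, h.w1, rfl⟩

theorem m0_of (hs : s ∈ S) (hy : y ∈ A ∨ y ∈ cj t A) (y2 : y * y = 1) (y1 : y ≠ 1) (c : s * y = y * s) : s ∈ M0 t A :=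
  (h.lS s hs).resolve_right fun k => y1 (hy.elim (fun m => h.one m (GW.conj_eq_of_comm c ▸ swA h.tt k m) y2)
    fun m => h.one (GW.conj_eq_of_comm c ▸ swB h.tt k m) m y2)

theorem tM0 : t ∉ M0 t A := fun k => h.w1 (h.one (by simpa only [ti h.tt] using conj_mem_of_norm k.1 h.zA) h.wB h.ww)

theorem sw_z (hs : s ∈ S) (k : s ∉ M0 t A) : s * z * s⁻¹ = t * z * t := by
  have := h.zc' (s := s * t) ⟨mul_mem hs h.tS, (h.lS s hs).resolve_left k⟩
  rw [mul_inv_eq_iff_eq_mul, ← mul_left_inj t, mul_assoc _ s, ← this, mul_assoc s t, ← mul_assoc t, ← mul_assoc t, h.tt, one_mul,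
    mul_assoc]

theorem Su : S ≤ 𝐂₁ (z * (t * z * t)) := fun s hs => mem_cent1.2 (by
  by_cases k : s ∈ M0 t A
  · rw [← mul_assoc, h.zc s hs k, mul_assoc, h.zc' ⟨hs, k⟩, mul_assoc z]
  · have e := h.sw_z hs k
    have e' : s * (t * z * t) * s⁻¹ = z := by
      rw [← e, ← mul_assoc, ← mul_assoc, mul_assoc, ← mul_inv_rev, h.zc _ (mul_mem hs hs) (two h.tt s (h.SM hs) s (h.SM hs) k k),
        mul_inv_cancel_right]
    rw [← mul_inv_eq_iff_eq_mul, ← conj_mul, e, e', h.zw])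

theorem card : ♯S ≤ 2 * ♯(S ⊓ M0 t A) := by
  have : (M0 t A).relIndex S = 2 := index_eq_two_iff.2 ⟨⟨t, h.tS⟩, fun s => by
    by_cases k : (s : G) ∈ M0 t A
    · exact .inr ⟨k, fun k' => h.tM0 ((mul_mem_cancel_left k).1 k')⟩
    · exact .inl ⟨(h.lS s s.2).resolve_left k, k⟩⟩
  rw [← card_inf_mul_relIndex (M0 t A) S, this, inf_comm, mul_comm]

theorem syl0 : Syl 2 (S ⊓ M0 t A) (𝐂₁ z) := syl_of_max h.cz0 h.pS.inf_left fun R l p k => by_contra fun n => by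
  obtain ⟨j, e⟩ := card_dvd k
  have lt := card_lt (lt_of_le_of_ne k (Ne.symm n))
  have j2 : 2 ≤ j := by
    by_contra c
    have : j = 0 ∨ j = 1 := by omega
    rcases this with rfl | rfl <;> omega
  obtain ⟨g, -, rfl⟩ := h.syl.syl_conj (h.syl.of_card_le le_top p (h.card.trans (by rw [e, mul_comm]; exact Nat.mul_le_mul_left _ j2)))
  refine h.nd (isc g⁻¹ z) ?_
  simpa [mul_assoc] using conj_comm' (mem_cent1.1 (l (conj_mem_cj.2 h.tS))) g⁻¹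

theorem ext (c : IsConj z y) (l : R ≤ 𝐂₁ y) (p : P2 R) : ∃ g, g * y * g⁻¹ = z ∧ cj g R ≤ S ⊓ M0 t A := by
  obtain ⟨g, rfl⟩ := isConj_iff.1 c.symm
  obtain ⟨k, hk, l'⟩ := h.syl0.syl_cj_le (K := cj g R) (by rw [← cj_cent1]; exact cj_mono g l) (p.cj g)
  exact ⟨k * g, by rw [← GW.conj_eq_of_comm (mem_cent1.1 hk)]; group, cj_cj k g R ▸ l'⟩

theorem der_G (l : cj g R ≤ S ⊓ M0 t A) (ha : a ∈ ⁅R, R⁆) : g * a * g⁻¹ ∈ A ⊔ cj t A ∧ g * a * g⁻¹ ∈ S ⊓ M0 t A :=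
  ⟨h.ab (der_mono l (cj_comm g R R ▸ conj_mem_cj.2 ha)), l (conj_mem_cj.2 (der_le R ha))⟩

theorem nsw (c : IsConj z y) (hy : y ∈ S) : y ∈ M0 t A := by_contra fun n => by
  have k := (h.lS y hy).resolve_left n
  have y2 := h.sq c
  obtain ⟨R, l, p, d⟩ := diag (U := S ⊓ A) y2 (fun x hx => cent_anti inf_le_right (h.cm' (by
    obtain ⟨a, ha, rfl⟩ := mem_cj_iff.1 hx; exact swA h.tt k ha.2))) h.pS.inf_left
  obtain ⟨g, e, l'⟩ := h.ext c l p
  have mx : ∀ a ∈ A, a * a = 1 → a ≠ 1 → Mx t A (a * (y * a * y⁻¹)) := fun a ha a2 a1 =>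
    ⟨a, ha, _, swA h.tt k ha, a2, conj_sq a2 y, a1, conj_ne a1 y, rfl⟩
  have key : ∀ a ∈ ⁅S ⊓ A, S ⊓ A⁆, a * a = 1 → a ≠ 1 → z * (g * (a * (y * a * y⁻¹)) * g⁻¹) ∈ cj t A := fun a ha a2 a1 => by
    have aA := (der_le _ ha).2
    have m := mx a aA a2 a1
    obtain ⟨m1, m2⟩ := h.der_G l' (d a ha)
    rcases h.tri m1 (conj_sq (h.mx_sq m) g) with k | k | ⟨b, hb, f, hf, b2, f2, -, f1, e'⟩
    · exact (h.ipA k m (isc g _).symm).elim
    · exact (h.ipB k m (isc g _).symm).elim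
    have cz : z * b = b * z := by
      have := h.zc _ m2.1 m2.2
      rwa [e', mul_assoc, ← h.comm h.zA hf, ← mul_assoc, ← mul_assoc, mul_left_inj, eq_comm] at this
    have c' : IsConj z (z * b * f) := by
      rw [mul_assoc, ← e']
      nth_rewrite 2 [← e]
      rw [conj_mul, h.comm aA (swA h.tt k aA), inv_eq_of_mul_eq_one_right y2, ← mul_assoc, ← mul_assoc, ← mul_assoc, ← mul_assoc,
        mul_assoc g y y, y2, mul_one]
      refine c.trans (isConj_iff.2 ⟨g * a, ?_⟩)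
      simp only [mul_inv_rev, inv_eq_of_mul_eq_one_right a2, mul_assoc]
    have zb : z * b = 1 := by_contra fun n => h.ipA h.zA ⟨_, mul_mem h.zA hb, f, hf, by
      rw [mul_assoc, ← mul_assoc b, ← cz, mul_assoc, b2, mul_one, h.zz], f2, n, f1, rfl⟩ c'
    rwa [e', ← mul_assoc, zb, one_mul]
  obtain ⟨a, ha, b, hb, a2, b2, cm, a1, b1, ab⟩ := h.four
  have aA := (der_le _ ha).2
  have bA := (der_le _ hb).2
  have m2 := (h.der_G l' (d a ha)).2
  refine h.ipB (mul_mem (key a ha a2 a1) (key b hb b2 b1)) (mx (a * b) (mul_mem aA bA) (by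
    rw [mul_assoc, ← mul_assoc b, ← cm, mul_assoc, b2, mul_one, a2]) fun e => ab (by
      rw [← inv_eq_of_mul_eq_one_right e, inv_eq_of_mul_eq_one_right a2])) (IsConj.symm (isConj_iff.2 ⟨g, ?_⟩))
  rw [← h.zc _ m2.1 m2.2, mul_assoc _ z, ← mul_assoc z, h.zz, one_mul, conj_mul, ← conj_mul (a := a) (b := y), mul_assoc a b,
    ← mul_assoc b, h.comm bA (swA h.tt k aA)]
  simp only [mul_assoc]

theorem pure (c : IsConj z y) (hy : y ∈ S) : y ∈ A ∨ y ∈ cj t A := h.pur y (h.nsw c hy) c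

theorem rt' (hb : b ∈ cj t A) (c : IsConj z b) : ∃ g ∈ cj t A, g * (t * z * t) * g⁻¹ = b := by
  obtain ⟨g, hg, e⟩ := h.rt _ ((memB h.tt).1 hb) (c.trans (isct h.tt b))
  refine ⟨_, conj_mem_cj.2 hg, ?_⟩
  rw [← t3 h.tt b, ← e]
  simp only [mul_inv_rev, ti h.tt, mul_assoc, ← mul_assoc t t, h.tt, one_mul]

theorem fix0 (hc : c ∈ 𝐂₁ (z * (t * z * t))) (m : c * z * c⁻¹ ∈ S) : c * z * c⁻¹ = z ∨ c * z * c⁻¹ = t * z * t := by
  have c' : IsConj z (c * z * c⁻¹ * (z * (t * z * t))) := by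
    rw [← GW.conj_eq_of_comm (mem_cent1.1 hc), conj_mul, ← mul_assoc z, h.zz, one_mul]
    exact (isct h.tt z).trans (isc c _)
  have y2 := conj_sq h.zz c
  have y0 : c * z * c⁻¹ ∈ S ⊓ M0 t A := ⟨m, h.nsw (isc c z) m⟩
  have p := h.pure (isc c z) m
  generalize c * z * c⁻¹ = y at c' y2 y0 p
  refine p.imp (fun k => by_contra fun n => h.ipA h.zA ⟨y * z, mul_mem k h.zA, _, h.wB, ?_, h.ww, fun e => n ?_, h.w1, (mul_assoc _ _ _).symm⟩ c')
    fun k => by_contra fun n => h.ipA h.zA ⟨z, h.zA, y * (t * z * t), mul_mem k h.wB, h.zz, ?_, h.z1, fun e => n ?_, ?_⟩ c'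
  · rw [mul_assoc, ← mul_assoc z, ← h.zc y y0.1 y0.2, mul_assoc, h.zz, mul_one, y2]
  · rw [eq_inv_of_mul_eq_one_left e, inv_eq_of_mul_eq_one_right h.zz]
  · rw [mul_assoc, ← mul_assoc _ y, ← h.zc' y0, mul_assoc, h.ww, mul_one, y2]
  · rw [eq_inv_of_mul_eq_one_left e, inv_eq_of_mul_eq_one_right h.ww]
  · rw [← mul_assoc, h.zc y y0.1 y0.2, mul_assoc]

/-- the centraliser of the diagonal involution permutes its two components -/
theorem fix (hc : c ∈ 𝐂₁ (z * (t * z * t))) : c * z * c⁻¹ = z ∨ c * z * c⁻¹ = t * z * t := by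
  have uu := h.mx_sq h.mxu
  have cZ : zpowers (z * (t * z * t)) ≤ 𝐙 (𝐂₁ (z * (t * z * t))) := zpowers_le.2 ⟨self_mem_cent1 _, le_cent1_iff.1 le_rfl⟩
  have uS : zpowers (z * (t * z * t)) ≤ S := zpowers_le.2 (mul_mem h.zS h.wS)
  have uz : z⁻¹ * (t * z * t) ∈ zpowers (z * (t * z * t)) := by rw [inv_eq_of_mul_eq_one_right h.zz]; exact mem_zpowers _
  have p := (e2 uu).zpowers
  have f0 := fun c => h.fix0 (c := c)
  have su := h.Su
  have zk : ∀ k ∈ zpowers (z * (t * z * t)), k * k = 1 := fun k hk => by rcases mem_zp uu hk with rfl | rfl <;> simp [uu]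
  generalize zpowers (z * (t * z * t)) = Z at cZ uS uz p zk
  generalize 𝐂₁ (z * (t * z * t)) = H at cZ hc f0 su
  have n := normalIn_of_le_center cZ
  have zn := n.norm (su h.zS)
  have w := (O_normal {2}ᶜ (qt Z H)).qp_of_qt n
  have k : Hall {2} Z (qp Z (𝐎 {2}ᶜ (qt Z H))) := ⟨le_qp _, p, by rw [relIndex_qp]; exact O_pi _ _⟩
  have d := k.dprod_of_cent (w.le.trans (cent_symm (cZ.trans inf_le_right)))
  have m : ⁅z, c⁆ ∈ qp Z (𝐎 {2}ᶜ (qt Z H)) := mem_qp.2 ⟨n.norm (der_le H (commutator_mem_commutator (su h.zS) hc)), by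
    rw [qe_comm zn (n.norm hc)]
    refine zstar ((h.syl.of_le su le_top).qt n.norm) (qe_mem_qt h.zS zn) (fun g hg e => ?_) _ (qe_mem_qt hc (n.norm hc))
    obtain ⟨g, hg', ng, rfl⟩ := mem_qt.1 hg
    rw [← qe_conj ng zn] at e ⊢
    rcases f0 g hg' ((qe_mem_qt_iff (mul_mem (mul_mem ng zn) (inv_mem ng)) uS).1 e) with e | e <;> rw [e]
    exact ((qe_eq_iff zn (n.norm (su h.wS))).2 uz).symm⟩
  obtain ⟨k, hk, o, ho, e⟩ := d.sdprod.exists_mul m
  have zo := h.sig (O_pi _ _) (le_norm_O _ (su.trans w.norm)) o ho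
  have e' : c * z * c⁻¹ = z * k * o := by
    rw [mul_assoc z, e, commutatorElement_def, ← mul_assoc, ← mul_assoc, ← mul_assoc, h.zz, one_mul, inv_eq_of_mul_eq_one_right h.zz]
  have o1 : o = 1 := GW.eq_one_of_sq_of_odd (by
    have c1 : Commute (z * k) o := (show Commute z o from zo.symm).mul_left (d.cent ho k hk)
    have c2 : Commute z k := (cZ hk).2 z (su h.zS)
    have := conj_sq h.zz c
    rwa [e', c1.symm.mul_mul_mul_comm, c2.symm.mul_mul_mul_comm, h.zz, zk k hk, one_mul, one_mul] at this) (eo_iff.2 ((O_pi _ _).elt ho))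
  exact f0 c hc (by rw [e', o1, mul_one]; exact mul_mem h.zS (uS hk))

theorem fix' (hc : c ∈ 𝐂₁ (z * (t * z * t))) (e : c * z * c⁻¹ = t * z * t) : c * (t * z * t) * c⁻¹ = z := by
  have := GW.conj_eq_of_comm (mem_cent1.1 hc)
  rwa [← conj_mul, e, h.zw, mul_right_inj] at this

theorem two' (a : G) (ha : a ∈ 𝐂₁ (z * (t * z * t))) (b : G) (hb : b ∈ 𝐂₁ (z * (t * z * t))) (a0 : a ∉ 𝐂₁ z) (b0 : b ∉ 𝐂₁ z) :
    a * b ∈ 𝐂₁ z := by
  have e := (h.fix ha).resolve_left fun e => a0 (mem_cent1.2 (mul_inv_eq_iff_eq_mul.1 e))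
  have e' := (h.fix hb).resolve_left fun e => b0 (mem_cent1.2 (mul_inv_eq_iff_eq_mul.1 e))
  refine mem_cent1.2 (mul_inv_eq_iff_eq_mul.1 ?_)
  rw [mul_inv_rev, mul_assoc a, mul_assoc a, ← mul_assoc _ b⁻¹, e', ← mul_assoc, h.fix' ha e]

theorem pV : P2 (zpowers z ⊔ zpowers (t * z * t)) :=
  (e2 h.zz).zpowers.sup (e2 h.ww).zpowers (.inl (norm_of_cent (by rw [cent_zpowers, zpowers_le]; exact mem_cent1.2 h.zw)))

theorem nV : 𝐂₁ (z * (t * z * t)) ≤ 𝐍 (zpowers z ⊔ zpowers (t * z * t)) := fun c hc => cj_eq_self.1 (by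
  rw [cj_sup, cj_zpowers, cj_zpowers]
  rcases h.fix hc with e | e
  · have := GW.conj_eq_of_comm (mem_cent1.1 hc)
    rw [← conj_mul, e, mul_right_inj] at this
    rw [e, this]
  · rw [e, h.fix' hc e, sup_comm])

theorem nsw2 (hm : m ∈ M0 t A) (l : k * z * k⁻¹ ∈ S) (e : m * (k * z * k⁻¹) * m⁻¹ = k * (t * z * t) * k⁻¹) : False :=
  (h.pure (isc k z) l).elim
    (fun p => h.ipA (mul_mem p (e ▸ conj_mem_of_norm hm.1 p)) h.mxu (by rw [conj_mul]; exact (isc k _).symm))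
    fun p => h.ipB (mul_mem p (e ▸ conj_mem_of_norm hm.2 p)) h.mxu (by rw [conj_mul]; exact (isc k _).symm)

theorem pureM (c : IsConj z y) (hy : y ∈ S) : y ∈ M0 t A := h.nsw c hy

theorem sa (hu : g * (z * (t * z * t)) * g⁻¹ ∈ S) : g * (z * (t * z * t)) * g⁻¹ ∈ M0 t A := by_contra fun n => by
  have k := (h.lS _ hu).resolve_left n
  obtain ⟨R, l, -, d⟩ := diag (U := S ⊓ A) (conj_sq (h.mx_sq h.mxu) g) (fun x hx => cent_anti inf_le_right (h.cm' (by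
    obtain ⟨a, ha, rfl⟩ := mem_cj_iff.1 hx; exact swA h.tt k ha.2))) h.pS.inf_left
  have m := der_mono l (d z h.zd)
  rw [h.sw_z hu n, ← cj_cent1, ← cj_comm, mem_cj] at m
  have c1 := mem_cent1.1 (der_le2 h.two' m)
  have c2 := mem_cent1.1 (der_le _ m)
  have l' : cj g (zpowers z ⊔ zpowers (t * z * t)) ≤ 𝐂₁ (z * (t * z * t)) := by
    rw [le_cent1_iff, ← cj_cent, mem_cj, cent_sup, cent_zpowers, cent_zpowers]
    refine ⟨mem_cent1.2 c1, mem_cent1.2 ?_⟩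
    rwa [← mul_assoc _ z, c1, mul_assoc z, mul_assoc z, mul_right_inj] at c2
  obtain ⟨f, -, lS⟩ := h.syl.syl_cj_le le_top ((h.pV.cj g).sup h.pV (.inl (l'.trans h.nV)))
  have m1 := lS (conj_mem_cj.2 (mem_sup_left (conj_mem_cj.2 (mem_sup_left (mem_zpowers z)))))
  have m2 := lS (conj_mem_cj.2 (mem_sup_left (conj_mem_cj.2 (mem_sup_right (mem_zpowers (t * z * t))))))
  refine h.nsw2 (mul_mem (h.pureM ((isc g z).trans (isc f _)) m1) (h.pureM (((isct h.tt z).trans (isc g _)).trans (isc f _)) m2))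
    (lS (conj_mem_cj.2 (mem_sup_right (mem_sup_left (mem_zpowers z))))) ?_
  rw [conj_mul, conj_mul]
  conv_rhs => rw [← h.sw_z hu n]
  group

theorem sb0 (hx : x ∈ S) (n : x ∉ M0 t A) (m : g * x * g⁻¹ ∈ S ⊓ M0 t A) (m' : g * (z * (t * z * t)) * g⁻¹ ∈ S ⊓ M0 t A) : False := by
  have c := h.zc _ m.1 m.2
  have l : zpowers (g * x * g⁻¹) ⊔ zpowers z ≤ 𝐍 (cj g (zpowers z ⊔ zpowers (t * z * t))) := by
    rw [← cj_norm]
    refine le_trans ?_ (cj_mono g h.nV)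
    rw [cj_cent1]
    exact sup_le (zpowers_le.2 (mem_cent1.2 (conj_comm' (mem_cent1.1 (h.Su hx)) g))) (zpowers_le.2 (mem_cent1.2 (h.zc _ m'.1 m'.2).symm))
  obtain ⟨f, -, lS⟩ := h.syl.syl_cj_le le_top ((h.pS.le (sup_le (zpowers_le.2 m.1) (zpowers_le.2 h.zS))).sup (h.pV.cj g) (.inl l))
  have m1 := lS (conj_mem_cj.2 (mem_sup_left (mem_sup_right (mem_zpowers z))))
  refine h.nsw2 (k := f * g) (h.m0_of (lS (conj_mem_cj.2 (mem_sup_left (mem_sup_left (mem_zpowers _))))) (h.pure (isc f z) m1)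
    (conj_sq h.zz f) (conj_ne h.z1 f) (conj_comm' c f)) ?_ ?_
  · simpa only [mul_inv_rev, mul_assoc] using lS (conj_mem_cj.2 (mem_sup_right (conj_mem_cj.2 (mem_sup_left (mem_zpowers z)))))
  · rw [← h.sw_z hx n]; group

theorem sb (hx : x ∈ S) (n : x ∉ M0 t A) (m : g * x * g⁻¹ ∈ S ⊓ M0 t A) : False := by
  have c := h.zc _ m.1 m.2
  obtain ⟨R, sR, l⟩ := exists_syl_le (M := 𝐂₁ (g * x * g⁻¹)) (sup_le (zpowers_le.2 (self_mem_cent1 _)) (zpowers_le.2 (mem_cent1.2 c.symm)))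
    (h.pS.le (sup_le (zpowers_le.2 m.1) (zpowers_le.2 h.zS)))
  obtain ⟨k, hk, l'⟩ := sR.syl_cj_le (zpowers_le.2 (mem_cent1.2 (conj_comm' (mem_cent1.1 (h.Su hx)).symm g)))
    (e2 (conj_sq (h.mx_sq h.mxu) g)).zpowers
  obtain ⟨f, -, lS⟩ := h.syl.syl_cj_le le_top sR.pi
  have m1 := lS (conj_mem_cj.2 (l (mem_sup_right (mem_zpowers z))))
  have m2 := lS (conj_mem_cj.2 (l (mem_sup_left (mem_zpowers _))))
  have m3 : f * k * g * (z * (t * z * t)) * (f * k * g)⁻¹ ∈ S := by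
    simpa only [mul_inv_rev, mul_assoc] using lS (conj_mem_cj.2 (l' (conj_mem_cj.2 (mem_zpowers _))))
  refine h.sb0 hx n ?_ ⟨m3, h.sa m3⟩
  rw [show f * k * g * x * (f * k * g)⁻¹ = f * (g * x * g⁻¹) * f⁻¹ by rw [← GW.conj_eq_of_comm (mem_cent1.1 hk)]; group]
  exact ⟨m2, h.m0_of m2 (h.pure (isc f z) m1) (conj_sq h.zz f) (conj_ne h.z1 f) (conj_comm' c f)⟩

theorem exK : ∃ K : Subgroup G, K.Normal ∧ _root_.commutator G ≤ K ∧ K.index = 2 ∧ S ⊓ M0 t A ≤ K ∧ t ∉ K := by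
  have two' := fun a ha b hb => two h.tt a (h.SM ha) b (h.SM hb)
  have i : (M0 t A).relIndex S = 2 := index_eq_two_iff.2 ⟨⟨t, h.tS⟩, fun s => by
    by_cases k : (s : G) ∈ M0 t A
    · exact .inr ⟨k, fun k' => h.tM0 ((mul_mem_cancel_left k).1 k')⟩
    · exact .inl ⟨(h.lS s s.2).resolve_left k, k⟩⟩
  obtain ⟨K, nK, l, d, e⟩ := CF.Transfer.exists_normal_of_transfer (der_le2 two')
  have o : Odd S.index := by
    rw [← Nat.not_even_iff_odd, even_iff_two_dvd, ← relIndex_top_right]; exact h.syl.not_dvd p2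
  have e' : ∀ x ∈ S, x ∈ K ↔ x ∈ M0 t A := fun x hx => by
    rw [e x hx fun k g hg => (mul_iff two' (inv_mem (pow_mem hx k)) hg).2 (inv_mem_iff.trans
      ⟨fun m => by_contra fun n => h.sb (g := g) hg n (by simpa [mul_assoc] using ⟨pow_mem hx k, m⟩),
        fun m => by_contra fun n => h.sb (g := g⁻¹) (pow_mem hx k) n (by rw [inv_inv]; exact ⟨hg, m⟩)⟩)]
    obtain ⟨j, k⟩ := o
    rw [k, pow_succ, pow_mul, mul_mem_cancel_left (pow_mem (_root_.sq x ▸ (mul_iff two' hx hx).2 Iff.rfl) j)]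
  have t0 : t ∉ K := fun k => h.tM0 ((e' t h.tS).1 k)
  exact ⟨K, nK, l, ((Nat.dvd_prime p2).1 (i ▸ d)).resolve_left fun k => t0 (index_eq_one.1 k ▸ mem_top t),
    fun x hx => (e' x hx.1).2 hx.2, t0⟩

theorem main' [K.Normal] (i : K.index = 2) (l : S ⊓ M0 t A ≤ K) (t0 : t ∉ K) (hx : x ∈ K) : Commute (x * z * x⁻¹) (t * z * t) := by
  have MK : M0 t A ≤ K := le_of_idx i ((h.syl.of_le h.SM le_top).inf_normal ⟨le_sup_left, MM_M0 h.tt⟩) l
  have nz : ∀ x ∈ K, ∀ g ∈ K, g * (t * z * t) * g⁻¹ ≠ x * z * x⁻¹ := fun x hx g hg e =>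
    t0 ((mul_mem_cancel_left (mul_mem (inv_mem hx) hg)).1 (le_of_idx i h.syl0 l (mem_cent1.2 (by
      calc _ = x⁻¹ * (g * (t * z * (t * t)) * g⁻¹) * g := by rw [h.tt]; group
        _ = x⁻¹ * (g * (t * z * t) * g⁻¹) * (g * t) := by group
        _ = _ := by rw [e]; group))))
  have a2 := conj_sq h.zz x
  obtain ⟨c, o, hc, ho, pc, po, e⟩ := exists_piPart {2} (x * z * x⁻¹ * (t * z * t))
  have ia := GW.inv_zpowers (a := x * z * x⁻¹) (x := x * z * x⁻¹ * (t * z * t)) (by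
    rw [← mul_assoc, a2, one_mul, mul_inv_rev (x * z * x⁻¹), inv_eq_of_mul_eq_one_right h.ww])
  have ib := GW.inv_zpowers (a := t * z * t) (x := x * z * x⁻¹ * (t * z * t)) (by
    rw [← mul_assoc, mul_inv_cancel_right, mul_inv_rev (x * z * x⁻¹), inv_eq_of_mul_eq_one_right h.ww, inv_eq_of_mul_eq_one_right a2])
  obtain ⟨j, ej⟩ := GW.mem_zpowers_sq (eo_iff.2 po)
  have yo : o ^ j ∈ zpowers o := zpow_mem (mem_zpowers o) j
  have yy : o ^ j * o ^ j = o := by rw [← (Commute.refl o).mul_zpow]; exact ej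
  generalize o ^ j = y at yo yy
  have eb : y * (t * z * t) * y⁻¹ = t * z * t * o⁻¹ := by
    have := ib _ (inv_mem (zpowers_le.2 ho yo))
    rw [inv_inv, mul_inv_eq_iff_eq_mul] at this
    rw [← this, ← yy, mul_inv_rev, mul_assoc _ y⁻¹]
  have ec : x * z * x⁻¹ * (y * (t * z * t) * y⁻¹) = c := by rw [eb, ← mul_assoc, ← e, mul_inv_cancel_right]
  obtain ⟨g, hg, lS⟩ : ∃ g ∈ K, cj g (zpowers (x * z * x⁻¹) ⊔ zpowers c) ≤ S := by
    obtain ⟨g, -, lS⟩ := h.syl.syl_cj_le le_top ((e2 a2).zpowers.sup pc.zpowers (.inl (zpowers_le.2 (ia.norm (zpowers_le.2 hc)))))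
    by_cases k : g ∈ K
    · exact ⟨g, k, lS⟩
    · exact ⟨t * g, (mul_mem_iff_of_index_two i).2 (iff_of_false t0 k), cj_cj t g _ ▸ cj_le_of_mem h.tS lS⟩
  have m1 := lS (conj_mem_cj.2 (mem_sup_left (mem_zpowers _)))
  have m2 : g * (y * (t * z * t) * y⁻¹) * g⁻¹ ∈ S := lS (conj_mem_cj.2 ((mul_mem_cancel_left (mem_sup_left (mem_zpowers _))).1
    (ec ▸ mem_sup_right (mem_zpowers _))))
  have c1 := (isc x z).trans (isc g _)
  have c2 := ((isct h.tt z).trans (isc y _)).trans (isc g _)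
  have yK : y ∈ K := GW.mem_of_sq_mem (eo_iff.2 (po.of_mem_zpowers yo)) ((mul_mem_iff_of_index_two i).2 Iff.rfl)
  obtain ⟨p, hp, ep⟩ := h.rt _ ((h.pure c1 m1).resolve_right fun k => let ⟨q, hq, e⟩ := h.rt' k c1
    nz _ (mul_mem hg hx) q (MK (h.BM hq)) (by rw [e]; group)) c1
  obtain ⟨q, hq, eq⟩ := h.rt' ((h.pure c2 m2).resolve_left fun k => let ⟨q, hq, e⟩ := h.rt _ k c2
    nz q (MK (h.AM hq)) _ (mul_mem hg yK) (by rw [e]; group)) c2
  have f1 : g⁻¹ * p * q * z * (g⁻¹ * p * q)⁻¹ = x * z * x⁻¹ := by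
    calc _ = g⁻¹ * (p * (q * z * q⁻¹) * p⁻¹) * g := by group
      _ = _ := by rw [← h.comm h.zA hq, mul_inv_cancel_right, ep]; group
  have f2 : g⁻¹ * p * q * (t * z * t) * (g⁻¹ * p * q)⁻¹ = y * (t * z * t) * y⁻¹ := by
    calc _ = g⁻¹ * (p * (q * (t * z * t) * q⁻¹) * p⁻¹) * g := by group
      _ = _ := by rw [h.comm hp (mul_mem (mul_mem hq h.wB) (inv_mem hq)), mul_inv_cancel_right, eq]; group
  generalize g⁻¹ * p * q = f at f1 f2
  have co : o ∈ cj f (𝐂₁ (z * (t * z * t))) := by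
    rw [cj_cent1, ← conj_mul, f1, f2, ec]; exact mem_cent1.2 ((abel_zpowers _).mul_comm ho hc)
  have co' : o ∈ 𝐂₁ (x * z * x⁻¹) := by
    rw [← f1, ← cj_cent1, mem_cj]
    exact odd_mem h.two' (mem_cj.1 co) (by simpa only [inv_inv] using po.conj f⁻¹)
  have := conj_comm' h.zw f
  rwa [f1, f2, eb, GW.eq_one_of_inv_of_comm (ia o ho) (mem_cent1.1 co') (eo_iff.2 po), inv_one, mul_one] at this

theorem main : ∀ x ∈ _root_.commutator G, Commute (x * z * x⁻¹) (t * z * t) := fun _ hx =>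
  let ⟨_, _, l, i, l', t0⟩ := h.exK; h.main' i l' t0 (l hx)

protected theorem false [E.Normal] (s : NS E) (hz : z ∈ E) : False := by
  have l : E ≤ _root_.commutator G := s.perf.ge.trans (commutator_mono le_top le_top)
  rcases s.eq_or ⁅zpowers z, E⁆ ⟨commutator_le_right _ _, norm_comm_right _ _⟩ with e | e
  · exact h.z1 (s.eq_one hz (comm_eq_bot.1 e (mem_zpowers z)))
  refine h.w1 (s.eq_one (by simpa only [ti h.tt] using ‹E.Normal›.conj_mem z hz t) (le_cent1_iff.1 (e.ge.trans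
    (commutator_le.2 fun a ha x hx => ?_))))
  rcases mem_zp h.zz ha with rfl | rfl
  · simp
  rw [commutatorElement_def, inv_eq_of_mul_eq_one_right h.zz, mul_assoc _ x, mul_assoc _ (x * _)]
  exact mul_mem (mem_cent1.2 h.zw) (mem_cent1.2 (h.main x (l hx)))

end Sq

end CF.Se
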