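import Cfsg.Agent.Loc.HY1

/-! The Sylow subgroup of Higman–Sims type and its automorphism inverting `4³`. -/

set_option autoImplicit false
set_option maxRecDepth 100000
set_option synthInstance.maxSize 100000
set_option synthInstance.maxHeartbeats 400000

namespace CF.Sa.H2
open Subgroup CF.Comp CF.Cod CF.HS CF.HY

theorem relν : ∀ r ∈ RT, ev (env [y⁻¹, w2⁻¹, w3⁻¹, r0, s0]) r = 1 := by decide +kernel

/-- the automorphism inverting `4³` -/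
noncomputable def ν : ST →* ST := pT.lift relν

noncomputable def ws (l : List (List ℕ)) : List ST := l.map El.w
noncomputable def q0 : ST := r0 * s0 * (r0 * s0)
noncomputable def x1 : ST := y * s0
noncomputable def x2 : ST := w2 * w3⁻¹ * r0
noncomputable def lD : List ST := ws [[], [7], [9], [9, 7], [7, 9], [9, 7, 9], [7, 9, 7], [7, 9, 7, 9]]
noncomputable def l8 : List ST := ws [[], [1], [3], [5], [1, 3], [1, 5], [3, 5], [1, 3, 5]]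
noncomputable def l4 : List ST := ws [[], [1], [3], [5], [1, 3], [1, 5], [3, 5], [1, 3, 5], [7, 9], [9, 7], [1, 7, 9], [1, 9, 7],
  [5, 7, 9], [5, 9, 7], [7, 5, 9], [7, 9, 5], [1, 9], [5, 9], [1, 5, 9], [3, 9, 7], [7, 9, 7], [9, 7, 3], [9, 7, 5], [9, 7, 9],
  [1, 5, 9, 7], [1, 9, 7, 9], [3, 9, 7, 9], [5, 9, 7, 9], [7, 9, 7, 9], [9, 7, 3, 9], [9, 7, 5, 9], [1, 5, 9, 7, 9]]
noncomputable def lc : List ST := ws [[], [3, 7], [5, 9], [7, 4, 9], [5, 5], [5, 7], [6, 7], [3, 5], [1, 9, 6], [1, 4, 5], [1, 4, 7],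
  [5, 5, 7, 9], [9], [1, 3, 9], [5, 7, 9], [3, 7, 6, 9], [1, 5, 5], [7, 5], [7, 6]]
/-- twisted conjugates of root involutions -/
noncomputable def ld : List ST := [q0, w3 * q0 * w3, r0, s0 * r0 * s0⁻¹, w2 * r0 * w2, w2 * s0 * r0 * (w2⁻¹ * s0)⁻¹]

theorem ν_g : ν y = y⁻¹ ∧ ν w2 = w2⁻¹ ∧ ν w3 = w3⁻¹ ∧ ν r0 = r0 ∧ ν s0 = s0 ∧ ν z = z ∧ ν v2 = v2 ∧ ν v3 = v3 := by decide +kernel
theorem ld_ok : ∀ d ∈ ld, ∃ u ∈ [1, w3, s0, w2, w2 * s0], ∃ n ∈ [r0, q0], d = u * n * (ν u)⁻¹ := by decide +kernel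
theorem ex2 : ∀ x : ST, x ≠ 1 → ∃ u ∈ [x, x * x, x * x * (x * x)], u ≠ 1 ∧ u * u = 1 := by decide +kernel
theorem chV : ∀ x : ST, x * x = 1 → x ∈ V ∨ ∃ u ∈ [w3, w3 * r0 * s0], x * (u * x * u⁻¹) ≠ u * x * u⁻¹ * x := by decide +kernel
theorem nV : ∀ v ∈ V, ν v = v ∧ v ∈ [1, z, v2, v2 * z, v3, v3 * z, v2 * v3, v2 * v3 * z] ∧
    ∀ u ∈ [y, w2, w3, r0, s0], u * v * u⁻¹ ∈ V := by decide +kernel
theorem c2 : ∀ u : ST, u * v2 * u⁻¹ = v2 ∨ u * v2 * u⁻¹ = v2 * z := by decide +kernel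
theorem flag : ∀ a ∈ V, r0 * a * r0⁻¹ = a → s0 * a * s0⁻¹ = a → a ≠ 1 → ∀ b ∈ V, (r0 * b * r0⁻¹ = b ∨ r0 * b * r0⁻¹ = b * a) →
    (s0 * b * s0⁻¹ = b ∨ s0 * b * s0⁻¹ = b * a) → b ≠ 1 → b ≠ a → ∀ c ∈ V, c ≠ 1 → c ≠ a → c ≠ b → c ≠ b * a →
    a = z ∧ ∃ d ∈ lD, d * b * d⁻¹ = v2 ∧ d * c * d⁻¹ = v3 := by decide +kernel
theorem ne_V : z ≠ 1 ∧ v2 ≠ 1 ∧ v2 ≠ z ∧ v3 ≠ 1 ∧ v3 ≠ z ∧ v3 ≠ v2 ∧ v3 ≠ v2 * z := by decide +kernel
theorem clW : ∀ x ∈ W, (∃ w ∈ l8, w ∈ W ∧ w * x * (ν w)⁻¹ = 1) ∨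
    ∃ u ∈ l4, u * x * (ν u)⁻¹ ∈ [(w2 * w3⁻¹)⁻¹, w2⁻¹, y⁻¹] := by decide +kernel
theorem inv0 : ∀ x : ST, x * x = 1 → ∃ d ∈ ld, x * d = d * ν x := by decide +kernel
theorem inv1 : ∀ x : ST, x * ν x = 1 → ∃ d ∈ ld, x * ν d = d * ν x := by decide +kernel
theorem cls : ∀ x : ST, x * x = 1 → ∃ u ∈ lc, u * x * u⁻¹ ∈ [1, z, v2, v3, r0, s0, q0, x1, x2, w2 * q0] := by decide +kernel
theorem sq8 : y * w3 * r0 * s0 * ν (y * w3 * r0 * s0) = w2 * q0 := by decide +kernel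
theorem card_A : Nat.card (ν.eqLocus (.id _)) = 64 :=
  (El.card_sub _ (fun a => ν a = a) fun _ => Iff.rfl).trans (by decide +kernel)
theorem card_x1 : Nat.card (centralizer {x1}) = 32 :=
  (El.card_sub _ (fun a => a * x1 = x1 * a) fun _ => mem_centralizer_singleton_iff).trans (by decide +kernel)
theorem card_x2 : Nat.card (centralizer {x2}) = 32 :=
  (El.card_sub _ (fun a => a * x2 = x2 * a) fun _ => mem_centralizer_singleton_iff).trans (by decide +kernel)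
theorem card_ST : Nat.card ST = 2 ^ 9 := El.card

end CF.Sa.H2
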